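import Mathlib
import Groth.Agent.Lib.Helper7.NowDense.Alg

/-! helper7: vanishing of the power torsion of a set of elements (scheme theoretic density of the
complement of their zero locus) in the generic fibre of a finite type algebra spreads out. -/

set_option linter.style.haveILetI false
set_option linter.unusedVariables false
set_option linter.unusedSectionVars false
set_option autoImplicit false

open scoped TensorProduct

namespace Groth.Agent.Helper7.SchDense

open Groth.Agent.Helper7.NowDense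

universe u

/-- If the annihilator of a finite family is zero then so is its power torsion. -/
theorem eq_zero_of_forall_pow_mul_eq_zero {S : Type*} [CommRing S] {ι : Type*} [Finite ι]
    (g : ι → S) (H : ∀ d : S, (∀ i, d * g i = 0) → d = 0) (c : S)
    (hc : ∀ i, ∃ n : ℕ, g i ^ n * c = 0) : c = 0 := by
  classical
  cases nonempty_fintype ι
  by_contra hcn
  have key : ∀ s : Finset ι, ∃ d : S, (d ≠ 0 ∧ ∀ i, ∃ k, d * g i ^ k = 0) ∧
      ∀ i ∈ s, d * g i = 0 := by
    intro s
    induction s using Finset.induction_on with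
    | empty =>
      refine ⟨c, ⟨hcn, fun i => ?_⟩, fun i hi => absurd hi (Finset.notMem_empty i)⟩
      obtain ⟨n, hn⟩ := hc i
      exact ⟨n, by rw [mul_comm]; exact hn⟩
    | insert j s hj ih =>
      obtain ⟨d, ⟨hd1, hd2⟩, hd3⟩ := ih
      have hex : ∃ k, d * g j ^ k = 0 := hd2 j
      have hk0 : Nat.find hex ≠ 0 := by
        intro h0
        have := Nat.find_spec hex
        rw [h0, pow_zero, mul_one] at this
        exact hd1 this
      obtain ⟨k, hk⟩ := Nat.exists_eq_succ_of_ne_zero hk0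
      have hmin : d * g j ^ k ≠ 0 := Nat.find_min hex (by rw [hk]; exact Nat.lt_succ_self k)
      have hspec : d * g j ^ (k + 1) = 0 := by
        have := Nat.find_spec hex
        rw [hk] at this
        exact this
      refine ⟨d * g j ^ k, ⟨hmin, fun i => ?_⟩, fun i hi => ?_⟩
      · obtain ⟨k', hk'⟩ := hd2 i
        refine ⟨k', ?_⟩
        have : d * g j ^ k * g i ^ k' = (d * g i ^ k') * g j ^ k := by ring
        rw [this, hk', zero_mul]
      · rcases Finset.mem_insert.mp hi with rfl | hi'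
        · have : d * g i ^ k * g i = d * g i ^ (k + 1) := by rw [pow_succ]; ring
          rw [this]
          exact hspec
        · have : d * g j ^ k * g i = (d * g i) * g j ^ k := by ring
          rw [this, hd3 i hi', zero_mul]
  obtain ⟨d, ⟨hd1, -⟩, hd3⟩ := key Finset.univ
  exact hd1 (H d fun i => hd3 i (Finset.mem_univ i))

section Domain

variable {R : Type u} [CommRing R] [IsDomain R] {C : Type u} [CommRing C] [Algebra R C]
  (K₀ : Type u) [Field K₀] [Algebra R K₀] [IsFractionRing R K₀]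

/-- Vanishing of the power torsion of a set of elements in the generic fibre spreads out, domain
case. -/
theorem exists_forall_torsion_eq_zero_of_isDomain [Algebra.FiniteType R C] (s : Set C)
    (h : ∀ c₀ : K₀ ⊗[R] C, (∀ b ∈ s, ∃ n : ℕ, ((1 : K₀) ⊗ₜ[R] b) ^ n * c₀ = 0) → c₀ = 0) :
    ∃ a : R, a ≠ 0 ∧ ∀ (K : Type u) [Field K] [Algebra R K], algebraMap R K a ≠ 0 →
      ∀ c : K ⊗[R] C, (∀ b ∈ s, ∃ n : ℕ, ((1 : K) ⊗ₜ[R] b) ^ n * c = 0) → c = 0 := by
  classical
  set ι₀ : C → K₀ ⊗[R] C := fun c => (1 : K₀) ⊗ₜ[R] c with hι₀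
  have hι₀mul : ∀ x y, ι₀ (x * y) = ι₀ x * ι₀ y := by
    intro x y
    change (1 : K₀) ⊗ₜ[R] (x * y) = (1 : K₀) ⊗ₜ[R] x * (1 : K₀) ⊗ₜ[R] y
    rw [Algebra.TensorProduct.tmul_mul_tmul, one_mul]
  haveI : Algebra.FiniteType K₀ (K₀ ⊗[R] C) := inferInstance
  haveI : IsNoetherianRing (K₀ ⊗[R] C) := Algebra.FiniteType.isNoetherianRing K₀ _
  have hfgJ : (Submodule.span (K₀ ⊗[R] C) (ι₀ '' s)).FG := IsNoetherian.noetherian _
  obtain ⟨s', hs's, hs'span⟩ := (Submodule.fg_span_iff_fg_span_finset_subset (ι₀ '' s)).mp hfgJ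
  have hg : ∀ x : s', ∃ c ∈ s, ι₀ c = x := fun x => hs's x.2
  choose g hgs hgx using hg
  have H₀ : ∀ c₀ : K₀ ⊗[R] C, (∀ i : s', c₀ * ι₀ (g i) = 0) → c₀ = 0 := by
    intro c₀ hc₀
    apply h c₀
    intro b hb
    refine ⟨1, ?_⟩
    rw [pow_one]
    have h1 : ι₀ b ∈ Submodule.span (K₀ ⊗[R] C) ((s' : Finset (K₀ ⊗[R] C)) : Set (K₀ ⊗[R] C)) := by
      rw [← hs'span]
      exact Submodule.subset_span ⟨b, hb, rfl⟩
    have h2 : ∀ z ∈ Submodule.span (K₀ ⊗[R] C) ((s' : Finset (K₀ ⊗[R] C)) : Set (K₀ ⊗[R] C)),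
        z * c₀ = 0 := by
      intro z hz
      induction hz using Submodule.span_induction with
      | mem x hx =>
        have := hc₀ ⟨x, hx⟩
        rw [hgx, mul_comm] at this
        exact this
      | zero => exact zero_mul _
      | add x y hx hy ihx ihy => rw [add_mul, ihx, ihy, add_zero]
      | smul w x hx ih => rw [smul_eq_mul, mul_assoc, ih, mul_zero]
    exact h2 _ h1
  let φ : C →ₗ[C] (s' → C) := LinearMap.pi fun i => LinearMap.lsmul C C (g i)
  have hφ : ∀ m, φ m = 0 → ∃ r : R, r ≠ 0 ∧ r • m = 0 := by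
    intro m hm
    have h1 : ι₀ m = 0 := by
      apply H₀
      intro i
      have h0 := congrFun hm i
      change g i • m = 0 at h0
      rw [smul_eq_mul] at h0
      rw [← hι₀mul, mul_comm, h0]
      exact TensorProduct.tmul_zero _ _
    exact exists_smul_eq_zero_of_tmul_eq_zero K₀ m h1
  obtain ⟨a, ha, hinj⟩ := exists_forall_lTensor_injective φ hφ
  refine ⟨a, ha, ?_⟩
  intro K _ _ hK c hc
  refine eq_zero_of_forall_pow_mul_eq_zero (fun i : s' => (1 : K) ⊗ₜ[R] (g i)) ?_ c
    (fun i => hc _ (hgs i))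
  intro d hd
  have hΦ : ∀ d' : K ⊗[R] C,
      TensorProduct.piRightHom R R K (fun _ : s' => C)
        (LinearMap.lTensor K (φ.restrictScalars R) d') =
      fun i => d' * ((1 : K) ⊗ₜ[R] (g i)) := by
    intro d'
    induction d' using TensorProduct.induction_on with
    | zero =>
      rw [map_zero, map_zero]
      ext i
      exact (zero_mul _).symm
    | tmul k x =>
      ext i
      rw [LinearMap.lTensor_tmul, TensorProduct.piRightHom_tmul,
        Algebra.TensorProduct.tmul_mul_tmul, mul_one]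
      change k ⊗ₜ[R] (g i • x) = k ⊗ₜ[R] (x * g i)
      rw [smul_eq_mul, mul_comm]
    | add x y hx hy =>
      rw [map_add, map_add, hx, hy]
      ext i
      exact (add_mul _ _ _).symm
  apply hinj K (IsUnit.mk0 _ hK)
  rw [map_zero]
  apply (TensorProduct.piRight R R K (fun _ : s' => C)).injective
  rw [map_zero, TensorProduct.piRight_apply, hΦ]
  ext i
  exact hd i

end Domain

/-- Vanishing of the power torsion of a set of elements in the fibre over a minimal-type point
spreads out to a basic open. -/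
theorem exists_forall_torsion_eq_zero {A B : Type u} [CommRing A] [CommRing B] [Algebra A B]
    [Algebra.FiniteType A B] (K₀ : Type u) [Field K₀] [Algebra A K₀]
    (hfrac : ∀ z : K₀, ∃ s a : A, algebraMap A K₀ s ≠ 0 ∧
      algebraMap A K₀ s * z = algebraMap A K₀ a)
    (s : Set B)
    (h : ∀ c₀ : B ⊗[A] K₀, (∀ b ∈ s, ∃ n : ℕ, (b ⊗ₜ[A] (1 : K₀)) ^ n * c₀ = 0) → c₀ = 0) :
    ∃ a : A, algebraMap A K₀ a ≠ 0 ∧ ∀ (K : Type u) [Field K] [Algebra A K],
      (∀ t : A, algebraMap A K₀ t = 0 → algebraMap A K t = 0) → algebraMap A K a ≠ 0 →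
      ∀ c : B ⊗[A] K, (∀ b ∈ s, ∃ n : ℕ, (b ⊗ₜ[A] (1 : K)) ^ n * c = 0) → c = 0 := by
  classical
  let p₀ : Ideal A := RingHom.ker (algebraMap A K₀)
  haveI : p₀.IsPrime := RingHom.ker_isPrime _
  let R := A ⧸ p₀
  let φ₀ : R →+* K₀ := RingHom.kerLift (algebraMap A K₀)
  have hφ₀ : Function.Injective φ₀ := RingHom.kerLift_injective _
  letI algRK₀ : Algebra R K₀ := φ₀.toAlgebra
  haveI : IsScalarTower A R K₀ := IsScalarTower.of_algebraMap_eq (fun t => rfl)
  haveI : FaithfulSMul R K₀ := (faithfulSMul_iff_algebraMap_injective R K₀).mpr hφ₀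
  haveI : IsFractionRing R K₀ := IsFractionRing.of_field R K₀ (fun z => by
    obtain ⟨s, a, hs, hsa⟩ := hfrac z
    refine ⟨Ideal.Quotient.mk p₀ a, Ideal.Quotient.mk p₀ s, ?_⟩
    change z = algebraMap A K₀ a / algebraMap A K₀ s
    rw [eq_div_iff hs, mul_comm]
    exact hsa)
  let C := R ⊗[A] B
  let sC : Set C := (fun b : B => (1 : R) ⊗ₜ[A] b) '' s
  have hval : ∀ (K : Type u) [Field K] [Algebra A K] [Algebra R K] [IsScalarTower A R K]
      (b : B),
      ((Algebra.TensorProduct.cancelBaseChange A R K K B).toRingEquiv.trans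
        (Algebra.TensorProduct.comm A K B).toRingEquiv : K ⊗[R] C ≃+* B ⊗[A] K)
        ((1 : K) ⊗ₜ[R] ((1 : R) ⊗ₜ[A] b)) = b ⊗ₜ[A] (1 : K) := by
    intro K _ _ _ _ b
    change (Algebra.TensorProduct.comm A K B)
      ((Algebra.TensorProduct.cancelBaseChange A R K K B) ((1 : K) ⊗ₜ[R] ((1 : R) ⊗ₜ[A] b))) = _
    rw [Algebra.TensorProduct.cancelBaseChange_tmul, one_smul,
      Algebra.TensorProduct.comm_tmul]
  have h1 : ∀ c₀ : K₀ ⊗[R] C, (∀ c ∈ sC, ∃ n : ℕ, ((1 : K₀) ⊗ₜ[R] c) ^ n * c₀ = 0) →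
      c₀ = 0 := by
    intro c₀ hc₀
    have h2 : ((Algebra.TensorProduct.cancelBaseChange A R K₀ K₀ B).toRingEquiv.trans
        (Algebra.TensorProduct.comm A K₀ B).toRingEquiv : K₀ ⊗[R] C ≃+* B ⊗[A] K₀) c₀ = 0 := by
      apply h
      intro b hb
      obtain ⟨n, hn⟩ := hc₀ _ ⟨b, hb, rfl⟩
      refine ⟨n, ?_⟩
      rw [← hval K₀ b, ← map_pow, ← map_mul, hn, map_zero]
    exact (RingEquiv.map_eq_zero_iff _).mp h2
  obtain ⟨a', ha', hK⟩ := exists_forall_torsion_eq_zero_of_isDomain (R := R) (C := C) K₀ sC h1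
  obtain ⟨a, rfl⟩ := Ideal.Quotient.mk_surjective a'
  refine ⟨a, fun h0 => ha' (Ideal.Quotient.eq_zero_iff_mem.mpr h0), ?_⟩
  intro K _ _ hker haK c hc
  let φ : R →+* K := Ideal.Quotient.lift p₀ (algebraMap A K) (fun t ht => hker t ht)
  letI algRK : Algebra R K := φ.toAlgebra
  haveI : IsScalarTower A R K := IsScalarTower.of_algebraMap_eq (fun t => rfl)
  have haK' : algebraMap R K (Ideal.Quotient.mk p₀ a) ≠ 0 := haK
  have h3 : ((Algebra.TensorProduct.cancelBaseChange A R K K B).toRingEquiv.trans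
      (Algebra.TensorProduct.comm A K B).toRingEquiv : K ⊗[R] C ≃+* B ⊗[A] K).symm c = 0 := by
    apply hK K haK'
    rintro _ ⟨b, hb, rfl⟩
    obtain ⟨n, hn⟩ := hc b hb
    refine ⟨n, ?_⟩
    apply ((Algebra.TensorProduct.cancelBaseChange A R K K B).toRingEquiv.trans
      (Algebra.TensorProduct.comm A K B).toRingEquiv : K ⊗[R] C ≃+* B ⊗[A] K).injective
    rw [map_mul, map_pow, hval K b, RingEquiv.apply_symm_apply, hn, map_zero]
  exact (RingEquiv.map_eq_zero_iff _).mp h3

end Groth.Agent.Helper7.SchDense
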