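import Mathlib

/-! helper7: scheme theoretic density of an open subscheme of an affine scheme in terms of power
torsion of the equations of the complement. -/

set_option linter.style.haveILetI false
set_option linter.unusedVariables false
set_option linter.unusedSectionVars false
set_option autoImplicit false
set_option backward.isDefEq.respectTransparency.types false

open CategoryTheory CategoryTheory.Limits AlgebraicGeometry TopologicalSpace Opposite

namespace Groth.Agent.Helper7.SchDense

universe u

/-- Restriction of a global section killed by a power of `g` to the basic open of `g`. -/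
theorem res_basicOpen_eq_zero {S : Scheme.{u}} (g c : Γ(S, ⊤)) (n : ℕ) (h : g ^ n * c = 0) :
    S.presheaf.map (homOfLE (S.basicOpen_le g)).op c = 0 := by
  have hu : IsUnit (S.presheaf.map (homOfLE (S.basicOpen_le g)).op g) :=
    S.toRingedSpace.isUnit_res_basicOpen g
  have h1 := congrArg (S.presheaf.map (homOfLE (S.basicOpen_le g)).op) h
  rw [map_mul, map_pow, map_zero] at h1
  exact ((hu.pow n).mul_right_eq_zero).mp h1

/-- Scheme theoretic density of an open subscheme of an affine scheme in terms of the power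
torsion of equations of its complement. -/
theorem isSchemeTheoreticallyDominant_ι_iff {S : Scheme.{u}} [IsAffine S] (D : S.Opens)
    (T' : Set Γ(S, ⊤)) (hD : ∀ x : S, x ∈ D ↔ ∃ g ∈ T', x ∈ S.basicOpen g) [QuasiCompact D.ι] :
    IsSchemeTheoreticallyDominant D.ι ↔
      ∀ c : Γ(S, ⊤), (∀ g ∈ T', ∃ n : ℕ, g ^ n * c = 0) → c = 0 := by
  have hcomp : IsCompact ((⊤ : S.Opens) : Set S) := by
    rw [Opens.coe_top]; exact isCompact_univ
  have hker : ∀ c : Γ(S, ⊤), (D.ι.app ⊤).hom c = 0 ↔ ∀ g ∈ T', ∃ n : ℕ, g ^ n * c = 0 := by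
    intro c
    have happ : (D.ι.app ⊤).hom c = 0 ↔
        S.presheaf.map (homOfLE (x := D.ι ''ᵁ ⊤) le_top).op c = 0 := Iff.rfl
    rw [happ]
    constructor
    · intro hc g hg
      apply exists_pow_mul_eq_zero_of_res_basicOpen_eq_zero_of_isCompact S (U := ⊤) hcomp c g
      have hle : S.basicOpen g ≤ D.ι ''ᵁ ⊤ := by
        rw [D.ι_image_top]
        intro x hx
        exact (hD x).mpr ⟨g, hg, hx⟩
      have h2 : S.presheaf.map (homOfLE (S.basicOpen_le g)).op c =
          S.presheaf.map (homOfLE hle).op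
            (S.presheaf.map (homOfLE (x := D.ι ''ᵁ ⊤) le_top).op c) := by
        rw [← ConcreteCategory.comp_apply, ← Functor.map_comp]
        rfl
      change S.presheaf.map (homOfLE (S.basicOpen_le g)).op c = 0
      rw [h2, hc, map_zero]
    · intro hc
      apply S.IsSheaf.section_ext (U := op (D.ι ''ᵁ ⊤))
      intro x hx
      have hxD : x ∈ D := by
        rw [D.ι_image_top] at hx
        exact hx
      obtain ⟨g, hg, hxg⟩ := (hD x).mp hxD
      have hle : S.basicOpen g ≤ D.ι ''ᵁ ⊤ := by
        rw [D.ι_image_top]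
        intro x hx
        exact (hD x).mpr ⟨g, hg, hx⟩
      refine ⟨S.basicOpen g, hle, hxg, ?_⟩
      obtain ⟨n, hn⟩ := hc g hg
      rw [map_zero, ← ConcreteCategory.comp_apply, ← Functor.map_comp]
      exact res_basicOpen_eq_zero g c n hn
  rw [isSchemeTheoreticallyDominant_iff]
  constructor
  · intro hbot c hc
    have h1 : c ∈ D.ι.ker.ideal ⟨⊤, isAffineOpen_top S⟩ := by
      rw [Scheme.Hom.ker_apply, RingHom.mem_ker]
      exact (hker c).mpr hc
    rw [hbot] at h1
    exact h1
  · intro h
    apply Scheme.IdealSheafData.ext_of_isAffine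
    rw [Scheme.Hom.ker_apply]
    ext c
    rw [RingHom.mem_ker]
    constructor
    · intro hc
      have : c = 0 := h c ((hker c).mp hc)
      rw [this]
      exact Ideal.zero_mem _
    · intro hc
      have : c = 0 := hc
      rw [this, map_zero]

/-- Scheme theoretic density of an open subscheme of a prime spectrum. -/
theorem isSchemeTheoreticallyDominant_ι_Spec_iff {C : Type u} [CommRing C]
    (D : (Spec (CommRingCat.of C)).Opens) (T : Set C)
    (hD : ((D : Set (Spec (CommRingCat.of C))))ᶜ = PrimeSpectrum.zeroLocus T)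
    [QuasiCompact D.ι] :
    IsSchemeTheoreticallyDominant D.ι ↔
      ∀ c : C, (∀ g ∈ T, ∃ n : ℕ, g ^ n * c = 0) → c = 0 := by
  let e : Γ(Spec (CommRingCat.of C), ⊤) ≃+* C :=
    (Scheme.ΓSpecIso (CommRingCat.of C)).commRingCatIsoToRingEquiv
  have he : ∀ g : C, e ((Scheme.ΓSpecIso (CommRingCat.of C)).inv g) = g := fun g =>
    Iso.inv_hom_id_apply (Scheme.ΓSpecIso (CommRingCat.of C)) g
  have hD' : ∀ x : Spec (CommRingCat.of C), x ∈ D ↔
      ∃ g' ∈ (fun g : C => (Scheme.ΓSpecIso (CommRingCat.of C)).inv g) '' T,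
        x ∈ (Spec (CommRingCat.of C)).basicOpen g' := by
    intro x
    have h1 : x ∈ D ↔ x ∉ PrimeSpectrum.zeroLocus T := by
      rw [← hD]
      exact (not_not).symm
    rw [h1]
    constructor
    · intro hx
      have h2 : ¬ T ⊆ x.asIdeal := hx
      obtain ⟨g, hgT, hgx⟩ := Set.not_subset.mp h2
      refine ⟨_, ⟨g, hgT, rfl⟩, ?_⟩
      rw [basicOpen_eq_of_affine]
      exact hgx
    · rintro ⟨_, ⟨g, hgT, rfl⟩, hx⟩ hmem
      rw [basicOpen_eq_of_affine] at hx
      exact hx (hmem hgT)
  rw [isSchemeTheoreticallyDominant_ι_iff D _ hD']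
  constructor
  · intro h c hc
    have h1 : e.symm c = 0 := by
      apply h
      rintro _ ⟨g, hgT, rfl⟩
      obtain ⟨n, hn⟩ := hc g hgT
      refine ⟨n, ?_⟩
      apply e.injective
      rw [map_mul, map_pow, he, RingEquiv.apply_symm_apply, hn, map_zero]
    exact (RingEquiv.map_eq_zero_iff _).mp h1
  · intro h c hc
    have h1 : e c = 0 := by
      apply h
      intro g hgT
      obtain ⟨n, hn⟩ := hc _ ⟨g, hgT, rfl⟩
      refine ⟨n, ?_⟩
      have h2 := congrArg e hn
      rw [map_mul, map_pow, he, map_zero] at h2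
      exact h2
    exact (RingEquiv.map_eq_zero_iff _).mp h1

end Groth.Agent.Helper7.SchDense
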