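import Mathlib

/-! helper7: scheme theoretic density of an open subscheme is local on the ambient scheme (for
quasi-compact inclusions). -/

set_option linter.style.haveILetI false
set_option linter.unusedVariables false
set_option linter.unusedSectionVars false
set_option autoImplicit false
set_option backward.isDefEq.respectTransparency.types false

open CategoryTheory CategoryTheory.Limits AlgebraicGeometry TopologicalSpace Opposite

namespace Groth.Agent.Helper7.SchDense

universe u

/-- The kernel of the pullback of an open subscheme inclusion along an open immersion. -/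
theorem ker_ideal_preimage_ι {F O : Scheme.{u}} (U' : F.Opens) [QuasiCompact U'.ι]
    (l : O ⟶ F) [IsOpenImmersion l] (W : O.affineOpens) :
    (l ⁻¹ᵁ U').ι.ker.ideal W =
      (U'.ι.ker.ideal ⟨l ''ᵁ W, W.2.image_of_isOpenImmersion _⟩).comap
        (l.appIso W).inv.hom :=
  Scheme.ker_ideal_of_isPullback_of_isOpenImmersion U'.ι (l ⁻¹ᵁ U').ι (l ∣_ U') l
    (isPullback_morphismRestrict l U').flip W

/-- Scheme theoretic density of an open subscheme restricts along open immersions. -/
theorem isSchemeTheoreticallyDominant_preimage_ι {F O : Scheme.{u}} (U' : F.Opens)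
    [QuasiCompact U'.ι] (l : O ⟶ F) [IsOpenImmersion l]
    (h : IsSchemeTheoreticallyDominant U'.ι) :
    IsSchemeTheoreticallyDominant (l ⁻¹ᵁ U').ι := by
  rw [isSchemeTheoreticallyDominant_iff] at h ⊢
  apply Scheme.IdealSheafData.ext
  funext W
  rw [ker_ideal_preimage_ι U' l W, h]
  ext x
  simp only [Scheme.IdealSheafData.ideal_bot, Pi.bot_apply, Ideal.mem_comap, Ideal.mem_bot]
  exact map_eq_zero_iff _ (ConcreteCategory.bijective_of_isIso (l.appIso W).inv).1

/-- Scheme theoretic density of an open subscheme can be checked on affine charts. -/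
theorem isSchemeTheoreticallyDominant_ι_of_charts {F : Scheme.{u}} (U' : F.Opens)
    [QuasiCompact U'.ι]
    (H : ∀ z : F, ∃ (O : Scheme.{u}) (l : O ⟶ F), IsAffine O ∧ IsOpenImmersion l ∧
      z ∈ Set.range l ∧ IsSchemeTheoreticallyDominant (l ⁻¹ᵁ U').ι) :
    IsSchemeTheoreticallyDominant U'.ι := by
  have H' : ∀ z : F, ∃ N : F.affineOpens, z ∈ N.1 ∧ U'.ι.ker.ideal N = ⊥ := by
    intro z
    obtain ⟨O, l, hO, hl, hz, hd⟩ := H z
    haveI := hO
    haveI := hl
    refine ⟨⟨l ''ᵁ ⊤, (isAffineOpen_top O).image_of_isOpenImmersion l⟩, ?_, ?_⟩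
    · obtain ⟨w, rfl⟩ := hz
      exact ⟨w, trivial, rfl⟩
    · rw [isSchemeTheoreticallyDominant_iff] at hd
      have h1 := ker_ideal_preimage_ι U' l ⟨⊤, isAffineOpen_top O⟩
      rw [hd] at h1
      rw [eq_bot_iff]
      intro x hx
      have hbij := ConcreteCategory.bijective_of_isIso (l.appIso ⊤).inv
      obtain ⟨x', rfl⟩ := hbij.2 x
      have h2 : x' ∈ (U'.ι.ker.ideal ⟨l ''ᵁ ⊤, (isAffineOpen_top O).image_of_isOpenImmersion l⟩).comap
          (l.appIso ⊤).inv.hom := hx
      rw [← h1] at h2
      have h3 : x' = 0 := h2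
      rw [h3, map_zero]
      exact Ideal.zero_mem _
  choose N hN1 hN2 using H'
  rw [isSchemeTheoreticallyDominant_iff]
  refine Scheme.IdealSheafData.ext_of_iSup_eq_top N ?_ (fun z => ?_)
  · rw [eq_top_iff]
    intro z _
    exact Opens.mem_iSup.mpr ⟨z, hN1 z⟩
  · rw [hN2 z]
    rfl

end Groth.Agent.Helper7.SchDense
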