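import Mathlib
import Groth.Agent.Lib.Helper7.SchDense.Alg
import Groth.Agent.Lib.Helper7.SchDense.Aff
import Groth.Agent.Lib.Helper7.SchDense.Local
import Groth.Agent.Lib.Helper7.NowDense.Main

/-! helper7: an open subset of the source of a finite type morphism to an irreducible scheme whose
trace on the generic fibre is scheme theoretically dense has scheme theoretically dense traces on
the fibres over a nonempty open. -/

set_option linter.style.haveILetI false
set_option linter.unusedVariables false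
set_option linter.unusedSectionVars false
set_option autoImplicit false
set_option backward.isDefEq.respectTransparency.types false

open CategoryTheory CategoryTheory.Limits AlgebraicGeometry TopologicalSpace
open scoped TensorProduct

namespace Groth.Agent.Helper7.SchDense

universe u

open Groth.Agent.Lib.Helper4.FiberChart Groth.Agent.Helper7.NowDense

instance isLocallyNoetherian_fiber {X Y : Scheme.{u}} (f : X ⟶ Y) [LocallyOfFiniteType f] (y : Y) :
    IsLocallyNoetherian (f.fiber y) :=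
  inferInstanceAs (IsLocallyNoetherian (pullback f (Y.fromSpecResidueField y)))

section Dict

variable {X Y : Scheme.{u}} (f : X ⟶ Y) {V : Y.Opens} (hV : IsAffineOpen V)
  {W : X.Opens} (hW : IsAffineOpen W) (e : W ≤ f ⁻¹ᵁ V)

/-- The chart of the trace of an open subset on a fibre, and scheme theoretic density. -/
theorem chart_dominant_iff [LocallyOfFiniteType f] (y : Y) (hy : y ∈ V) (U : X.Opens) :
    letI := (f.appLE V W e).hom.toAlgebra
    letI := (Y.evaluation V y hy).hom.toAlgebra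
    ∀ (l : Spec (.of (Γ(X, W) ⊗[Γ(Y, V)] (Y.residueField y))) ⟶ f.fiber y) [IsOpenImmersion l],
      l ≫ f.fiberι y = Spec.map (CommRingCat.ofHom
        (Algebra.TensorProduct.includeLeftRingHom :
          Γ(X, W) →+* Γ(X, W) ⊗[Γ(Y, V)] (Y.residueField y))) ≫ hW.fromSpec →
      (IsSchemeTheoreticallyDominant (l ⁻¹ᵁ (f.fiberι y ⁻¹ᵁ U)).ι ↔
        ∀ c : Γ(X, W) ⊗[Γ(Y, V)] (Y.residueField y),
          (∀ b ∈ (PrimeSpectrum.vanishingIdeal (hW.fromSpec ⁻¹' ((U : Set X)ᶜ)) : Set Γ(X, W)),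
            ∃ n : ℕ, (b ⊗ₜ[Γ(Y, V)] (1 : Y.residueField y)) ^ n * c = 0) → c = 0) := by
  letI := (f.appLE V W e).hom.toAlgebra
  letI := (Y.evaluation V y hy).hom.toAlgebra
  intro l _ hl
  have hcl : IsClosed (hW.fromSpec ⁻¹' ((U : Set X)ᶜ)) :=
    U.isOpen.isClosed_compl.preimage hW.fromSpec.continuous
  have hs : hW.fromSpec ⁻¹' ((U : Set X)ᶜ) = PrimeSpectrum.zeroLocus
      (PrimeSpectrum.vanishingIdeal (hW.fromSpec ⁻¹' ((U : Set X)ᶜ)) : Set Γ(X, W)) := by
    rw [PrimeSpectrum.zeroLocus_vanishingIdeal_eq_closure]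
    exact hcl.closure_eq.symm
  have hD := chart_preimage_eq f hW e y hy ((U : Set X)ᶜ) _ hs l hl
  haveI : QuasiCompact (l ⁻¹ᵁ (f.fiberι y ⁻¹ᵁ U)).ι :=
    MorphismProperty.of_isPullback (P := @QuasiCompact)
      (isPullback_morphismRestrict l (f.fiberι y ⁻¹ᵁ U)) inferInstance
  rw [isSchemeTheoreticallyDominant_ι_Spec_iff (l ⁻¹ᵁ (f.fiberι y ⁻¹ᵁ U))
    ((fun b : Γ(X, W) => b ⊗ₜ[Γ(Y, V)] (1 : Y.residueField y)) ''
      (PrimeSpectrum.vanishingIdeal (hW.fromSpec ⁻¹' ((U : Set X)ᶜ)) : Set Γ(X, W)))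
    (by rw [← hD]; rfl)]
  constructor
  · intro h c hc
    apply h c
    rintro _ ⟨b, hb, rfl⟩
    exact hc b hb
  · intro h c hc
    apply h c
    intro b hb
    exact hc _ ⟨b, hb, rfl⟩

include hV hW e in
/-- Scheme theoretic density on one chart. -/
theorem exists_of_dominant_chart [IrreducibleSpace Y] [LocallyOfFiniteType f]
    (hη : genericPoint Y ∈ V) (U : X.Opens)
    (h : IsSchemeTheoreticallyDominant (f.fiberι (genericPoint Y) ⁻¹ᵁ U).ι) :
    ∃ a : Γ(Y, V), genericPoint Y ∈ Y.basicOpen a ∧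
      ∀ (y : Y) (hy : y ∈ V), y ∈ Y.basicOpen a →
        letI := (f.appLE V W e).hom.toAlgebra
        letI := (Y.evaluation V y hy).hom.toAlgebra
        ∀ c : Γ(X, W) ⊗[Γ(Y, V)] (Y.residueField y),
          (∀ b ∈ (PrimeSpectrum.vanishingIdeal (hW.fromSpec ⁻¹' ((U : Set X)ᶜ)) : Set Γ(X, W)),
            ∃ n : ℕ, (b ⊗ₜ[Γ(Y, V)] (1 : Y.residueField y)) ^ n * c = 0) → c = 0 := by
  letI algB : Algebra Γ(Y, V) Γ(X, W) := (f.appLE V W e).hom.toAlgebra
  letI algK₀ : Algebra Γ(Y, V) (Y.residueField (genericPoint Y)) :=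
    (Y.evaluation V (genericPoint Y) hη).hom.toAlgebra
  haveI : Algebra.FiniteType Γ(Y, V) Γ(X, W) :=
    LocallyOfFiniteType.finiteType_appLE f hV hW e
  have hfrac : ∀ z : Y.residueField (genericPoint Y), ∃ s a : Γ(Y, V),
      algebraMap Γ(Y, V) (Y.residueField (genericPoint Y)) s ≠ 0 ∧
      algebraMap Γ(Y, V) (Y.residueField (genericPoint Y)) s * z =
        algebraMap Γ(Y, V) (Y.residueField (genericPoint Y)) a := by
    intro z
    obtain ⟨s, a, hs, hsa⟩ :=
      Groth.Agent.Lib.Helper4.RadBir3.exists_frac_rho hV (genericPoint Y) hη z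
    refine ⟨s, a, ?_, hsa⟩
    intro h0
    apply hs
    rw [← Groth.Agent.Lib.Helper4.NormFibre2.ker_rho hV (genericPoint Y) hη, RingHom.mem_ker]
    exact h0
  -- the generic chart
  have hgen : ∀ c : Γ(X, W) ⊗[Γ(Y, V)] (Y.residueField (genericPoint Y)),
      (∀ b ∈ (PrimeSpectrum.vanishingIdeal (hW.fromSpec ⁻¹' ((U : Set X)ᶜ)) : Set Γ(X, W)),
        ∃ n : ℕ, (b ⊗ₜ[Γ(Y, V)] (1 : Y.residueField (genericPoint Y))) ^ n * c = 0) → c = 0 := by
    obtain ⟨l, hl, hl2, -⟩ := fiberChart f hV hW e (genericPoint Y) hη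
    haveI := hl
    exact (chart_dominant_iff f hW e (genericPoint Y) hη U l hl2).mp
      (isSchemeTheoreticallyDominant_preimage_ι _ l h)
  obtain ⟨a, ha, hK⟩ := exists_forall_torsion_eq_zero (A := Γ(Y, V)) (B := Γ(X, W))
    (Y.residueField (genericPoint Y)) hfrac _ hgen
  have hηa : genericPoint Y ∈ Y.basicOpen a :=
    (Y.evaluation_ne_zero_iff_mem_basicOpen (genericPoint Y) hη a).mp ha
  refine ⟨a, hηa, fun y hyV hya => ?_⟩
  letI algK : Algebra Γ(Y, V) (Y.residueField y) := (Y.evaluation V y hyV).hom.toAlgebra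
  apply hK (Y.residueField y)
  · intro t ht
    by_contra hne
    have h1 : y ∈ Y.basicOpen t := (Y.evaluation_ne_zero_iff_mem_basicOpen y hyV t).mp hne
    have h2 : genericPoint Y ∈ Y.basicOpen t :=
      ((genericPoint_spec Y).mem_open_set_iff (Y.basicOpen t).isOpen).mpr ⟨y, trivial, h1⟩
    exact (Y.evaluation_ne_zero_iff_mem_basicOpen (genericPoint Y) hη t).mpr h2 ht
  · exact (Y.evaluation_ne_zero_iff_mem_basicOpen y hyV a).mpr hya

end Dict

/-- An open subset whose trace on the generic fibre is scheme theoretically dense has scheme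
theoretically dense traces on the fibres over a nonempty open. -/
theorem schemeTheoreticallyDense_fibres_near_generic {X Y : Scheme.{u}} (f : X ⟶ Y)
    [IrreducibleSpace Y] [LocallyOfFiniteType f] [QuasiCompact f] (U : X.Opens)
    (h : IsSchemeTheoreticallyDominant (f.fiberι (genericPoint Y) ⁻¹ᵁ U).ι) :
    ∃ V : Y.Opens, genericPoint Y ∈ V ∧
      ∀ y ∈ V, IsSchemeTheoreticallyDominant (f.fiberι y ⁻¹ᵁ U).ι := by
  classical
  obtain ⟨V₀, hV₀, hηV₀⟩ : ∃ V : Y.Opens, IsAffineOpen V ∧ genericPoint Y ∈ V := by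
    obtain ⟨_, ⟨V, hV, rfl⟩, hy, -⟩ := (Y.isBasis_affineOpens).exists_subset_of_mem_open
      (Set.mem_univ (genericPoint Y)) isOpen_univ
    exact ⟨V, hV, hy⟩
  have hcomp : IsCompact ((f ⁻¹ᵁ V₀ : X.Opens) : Set X) :=
    QuasiCompact.isCompact_preimage (f := f) _ V₀.isOpen hV₀.isCompact
  obtain ⟨t, ht1, ht2⟩ :=
    Groth.Agent.Helper7.FinType.exists_finset_affine_cover (f ⁻¹ᵁ V₀) hcomp
  have hex : ∀ W : t, ∃ a : Γ(Y, V₀), genericPoint Y ∈ Y.basicOpen a ∧
      ∀ (y : Y) (hy : y ∈ V₀), y ∈ Y.basicOpen a →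
        letI := (f.appLE V₀ W.1 (ht1 W.1 W.2).2).hom.toAlgebra
        letI := (Y.evaluation V₀ y hy).hom.toAlgebra
        ∀ c : Γ(X, W.1) ⊗[Γ(Y, V₀)] (Y.residueField y),
          (∀ b ∈ (PrimeSpectrum.vanishingIdeal ((ht1 W.1 W.2).1.fromSpec ⁻¹' ((U : Set X)ᶜ)) :
              Set Γ(X, W.1)),
            ∃ n : ℕ, (b ⊗ₜ[Γ(Y, V₀)] (1 : Y.residueField y)) ^ n * c = 0) → c = 0 := fun W =>
    exists_of_dominant_chart f hV₀ (ht1 W.1 W.2).1 (ht1 W.1 W.2).2 hηV₀ U h
  choose a ha1 ha2 using hex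
  refine ⟨Y.basicOpen (∏ W : t, a W),
    (Groth.Agent.Helper7.NearGen.mem_basicOpen_prod a _ hηV₀).mpr ha1, ?_⟩
  intro y hy
  have hyV₀ : y ∈ V₀ := Y.basicOpen_le _ hy
  apply isSchemeTheoreticallyDominant_ι_of_charts
  intro z
  have hfz : f ((f.fiberι y) z) = y := by
    have : (f.fiberι y) z ∈ Set.range (f.fiberι y) := ⟨z, rfl⟩
    rw [Scheme.Hom.range_fiberι] at this
    exact this
  have hxV : (f.fiberι y) z ∈ f ⁻¹ᵁ V₀ := by
    change f ((f.fiberι y) z) ∈ V₀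
    rw [hfz]; exact hyV₀
  obtain ⟨W, hWt, hxW⟩ := ht2 _ hxV
  letI := (f.appLE V₀ W (ht1 W hWt).2).hom.toAlgebra
  letI := (Y.evaluation V₀ y hyV₀).hom.toAlgebra
  obtain ⟨l, hl, hl2, hrange⟩ := fiberChart f hV₀ (ht1 W hWt).1 (ht1 W hWt).2 y hyV₀
  haveI := hl
  have hzr : z ∈ Set.range l := by
    rw [hrange]; exact hxW
  refine ⟨_, l, inferInstance, hl, hzr, ?_⟩
  exact (chart_dominant_iff f (ht1 W hWt).1 (ht1 W hWt).2 y hyV₀ U l hl2).mpr
    (ha2 ⟨W, hWt⟩ y hyV₀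
      ((Groth.Agent.Helper7.NearGen.mem_basicOpen_prod a _ hyV₀).mp hy ⟨W, hWt⟩))

end Groth.Agent.Helper7.SchDense
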